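import Mathlib
import Cfsg.Prelude.Def_Characters
import Cfsg.Agent.Lib.Helper7.W2pJ0

/-!
# Wielandt's theorem on primitive groups of degree `2p`: the commutator count, counting side
(helper8, slice of S0720 for helper7)
-/

set_option autoImplicit false
set_option linter.unusedSectionVars false
set_option linter.unusedVariables false

namespace Cfsg.Agent.S0720H8

open Cfsg MulAction Cfsg.Agent.Lib.Helper7.W2p

variable {G : Type*} [Group G] [Fintype G] {Ω : Type*} [Fintype Ω] [DecidableEq Ω] [MulAction G Ω]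

/-- the number of `g` with `g β = β'` and `g (y β) = y β'` -/
noncomputable def Mc (y : G) (β β' : Ω) : ℕ :=
  (Finset.univ.filter (fun g : G => g • β = β' ∧ g • (y • β) = y • β')).card

theorem pc_eq_card (h : G) :
    pc G Ω h = ((Finset.univ.filter (fun β : Ω => h • β = β)).card : ℂ) := by
  rw [pc_apply]
  congr 1
  rw [← Fintype.card_subtype, ← Nat.card_eq_fintype_card]
  exact Nat.card_congr (Equiv.subtypeEquivRight (fun β => MulAction.mem_fixedBy))

theorem comm_fix_iff (g y : G) (β : Ω) :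
    (g⁻¹ * y⁻¹ * g * y) • β = β ↔ g • (y • β) = y • (g • β) := by
  rw [mul_smul, mul_smul, mul_smul, inv_smul_eq_iff, inv_smul_eq_iff]

/-- the counting side: the commutator count is the sum of the numbers `Mc` -/
theorem sum_card_comm (y : G) :
    ∑ g : G, (Finset.univ.filter (fun β : Ω => (g⁻¹ * y⁻¹ * g * y) • β = β)).card
      = ∑ β : Ω, ∑ β' : Ω, Mc y β β' := by
  classical
  have h1 : ∀ g : G, (Finset.univ.filter (fun β : Ω => (g⁻¹ * y⁻¹ * g * y) • β = β)).card
      = ∑ β : Ω, if g • (y • β) = y • (g • β) then 1 else 0 := by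
    intro g
    rw [Finset.card_filter]
    apply Finset.sum_congr rfl
    intro β _
    simp only [comm_fix_iff]
  rw [Finset.sum_congr rfl (fun g _ => h1 g), Finset.sum_comm]
  apply Finset.sum_congr rfl
  intro β _
  have h2 : ∀ β' : Ω, Mc y β β'
      = ∑ g : G, if g • β = β' ∧ g • (y • β) = y • β' then 1 else 0 := by
    intro β'
    unfold Mc
    rw [Finset.card_filter]
  rw [Finset.sum_congr rfl (fun β' _ => h2 β'), Finset.sum_comm]
  apply Finset.sum_congr rfl
  intro g _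
  rw [Finset.sum_eq_single (g • β)]
  · by_cases h : g • (y • β) = y • (g • β)
    · rw [if_pos h, if_pos ⟨rfl, h⟩]
    · rw [if_neg h, if_neg (fun h' => h h'.2)]
  · intro β' _ hne
    rw [if_neg (fun h' => hne h'.1.symm)]
  · intro h
    exact absurd (Finset.mem_univ _) h

/-- invariance of `Mc` under elements commuting with `y` -/
theorem Mc_smul (y u v : G) (hu : u * y = y * u) (hv : v * y = y * v) (β β' : Ω) :
    Mc y (u • β) (v • β') = Mc y β β' := by
  unfold Mc
  symm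
  apply Finset.card_equiv ((Equiv.mulLeft v).trans (Equiv.mulRight u⁻¹))
  intro g
  simp only [Finset.mem_filter, Finset.mem_univ, true_and, Equiv.trans_apply, Equiv.coe_mulLeft,
    Equiv.coe_mulRight]
  have e1 : (v * g * u⁻¹) • u • β = v • (g • β) := by
    rw [mul_smul, mul_smul, inv_smul_smul]
  have e2 : (v * g * u⁻¹) • y • u • β = v • (g • (y • β)) := by
    rw [← mul_smul y u, ← hu, mul_smul u y, mul_smul, mul_smul, inv_smul_smul]
  have e3 : y • v • β' = v • (y • β') := by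
    rw [← mul_smul, ← hv, mul_smul]
  rw [e1, e2, e3, smul_left_cancel_iff, smul_left_cancel_iff]

namespace Cfg'

variable {p : ℕ} [hpf : Fact p.Prime] (C : Cfg G Ω p)

/-- the total count in coordinates -/
theorem sum_Mc (hΩ : Fintype.card Ω = 2 * p) (m : ZMod p) :
    ∑ β : Ω, ∑ β' : Ω, Mc (C.xp m) β β'
      = p ^ 2 * (Mc (C.xp m) C.a C.a + Mc (C.xp m) C.b C.b + Mc (C.xp m) C.a C.b
          + Mc (C.xp m) C.b C.a) := by
  have hinv : ∀ (i j : ZMod p) (β β' : Ω),
      Mc (C.xp m) (C.xp i • β) (C.xp j • β') = Mc (C.xp m) β β' := fun i j β β' =>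
    Mc_smul _ _ _ (C.xp_comm i m) (C.xp_comm j m) β β'
  rw [C.sum_eq hΩ]
  simp only [C.sum_eq hΩ (fun β' => Mc (C.xp m) _ β'), hinv]
  simp only [Finset.sum_add_distrib, Finset.sum_const, Finset.card_univ, ZMod.card, smul_eq_mul]
  ring

theorem Mc_aa (y : G) : Mc y C.a C.a = tr G C.a (y • C.a) (y • C.a) := rfl

theorem Mc_bb (y : G) :
    Mc y C.b C.b = tr G C.a ((C.g₀⁻¹ * y * C.g₀) • C.a) ((C.g₀⁻¹ * y * C.g₀) • C.a) := by
  unfold Mc tr
  symm
  apply Finset.card_equiv ((Equiv.mulLeft C.g₀).trans (Equiv.mulRight C.g₀⁻¹))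
  intro k
  rw [Finset.mem_filter, Finset.mem_filter]
  simp only [Finset.mem_univ, true_and, Equiv.trans_apply, Equiv.coe_mulLeft, Equiv.coe_mulRight]
  have e0 : C.b = C.g₀ • C.a := rfl
  have e1 : (C.g₀ * k * C.g₀⁻¹) • C.b = C.g₀ • (k • C.a) := by
    rw [e0, mul_smul, mul_smul, inv_smul_smul]
  have e2 : (C.g₀ * k * C.g₀⁻¹) • y • C.b = C.g₀ • (k • ((C.g₀⁻¹ * y * C.g₀) • C.a)) := by
    rw [e0]
    simp only [mul_smul]
  have e3 : y • C.b = C.g₀ • ((C.g₀⁻¹ * y * C.g₀) • C.a) := by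
    rw [e0]
    simp only [mul_smul, smul_inv_smul]
  rw [e1, e2, e3, e0, smul_left_cancel_iff, smul_left_cancel_iff]

theorem Mc_ab (y : G) :
    Mc y C.a C.b = tr G C.a (y • C.a) ((C.g₀⁻¹ * y * C.g₀) • C.a) := by
  unfold Mc tr
  symm
  apply Finset.card_equiv (Equiv.mulLeft C.g₀)
  intro k
  rw [Finset.mem_filter, Finset.mem_filter]
  simp only [Finset.mem_univ, true_and, Equiv.coe_mulLeft]
  have e0 : C.b = C.g₀ • C.a := rfl
  have e3 : y • C.b = C.g₀ • ((C.g₀⁻¹ * y * C.g₀) • C.a) := by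
    rw [e0]
    simp only [mul_smul, smul_inv_smul]
  rw [mul_smul C.g₀ k, mul_smul C.g₀ k, e3, e0, smul_left_cancel_iff, smul_left_cancel_iff]

theorem Mc_ba (y : G) :
    Mc y C.b C.a = tr G C.a ((C.g₀⁻¹ * y * C.g₀) • C.a) (y • C.a) := by
  unfold Mc tr
  symm
  apply Finset.card_equiv (Equiv.mulRight C.g₀⁻¹)
  intro k
  rw [Finset.mem_filter, Finset.mem_filter]
  simp only [Finset.mem_univ, true_and, Equiv.coe_mulRight]
  have e0 : C.b = C.g₀ • C.a := rfl
  have e1 : (k * C.g₀⁻¹) • C.b = k • C.a := by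
    rw [e0, mul_smul, inv_smul_smul]
  have e2 : (k * C.g₀⁻¹) • y • C.b = k • ((C.g₀⁻¹ * y * C.g₀) • C.a) := by
    rw [e0]
    simp only [mul_smul]
  rw [e1, e2]

/-- the counting side of the commutator count, in terms of the transporter numbers -/
theorem sum_card_comm_eq (hΩ : Fintype.card Ω = 2 * p) (m : ZMod p) :
    ∑ g : G, (Finset.univ.filter
        (fun β : Ω => (g⁻¹ * (C.xp m)⁻¹ * g * C.xp m) • β = β)).card
      = p ^ 2 * (tr G C.a (C.xp m • C.a) (C.xp m • C.a)
          + tr G C.a (C.mirror.xp m • C.a) (C.mirror.xp m • C.a)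
          + 2 * tr G C.a (C.xp m • C.a) (C.mirror.xp m • C.a)) := by
  rw [sum_card_comm, sum_Mc C hΩ, Mc_aa, Mc_bb, Mc_ab, Mc_ba, ← C.mirror_xp,
    tr_comm C.a (C.mirror.xp m • C.a) (C.xp m • C.a)]
  ring

end Cfg'

end Cfsg.Agent.S0720H8
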