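import Mathlib
import Cfsg.Prelude.Def_Characters
import Cfsg.Agent.Lib.S0720H8.StarA

/-!
# Wielandt's theorem on primitive groups of degree `2p`: the commutator count inequality
(helper8, slice of S0720 for helper7)
-/

set_option autoImplicit false
set_option linter.unusedSectionVars false
set_option linter.unusedVariables false

namespace Cfsg.Agent.S0720H8

open Cfsg MulAction Cfsg.Agent.Lib.Helper7.W2p Cfsg.Agent.Lib.helper3.Irr
open Cfsg.Agent.Lib.helper3.IndFun Cfsg.Agent.Lib.helper3.GalPow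
open scoped ComplexConjugate

variable {G : Type*} [Group G] [Fintype G] {Ω : Type*} [Fintype Ω] [DecidableEq Ω] [MulAction G Ω]

/-- the character side for one irreducible character -/
theorem irr_sum_comm {χ : G → ℂ} (hχ : IsIrrCharacter G χ) (y : G) :
    χ 1 * ∑ g : G, χ (g⁻¹ * y⁻¹ * g * y) = (Nat.card G : ℂ) * (χ y * conj (χ y)) := by
  have hc := isCharacter_of_isIrrCharacter hχ
  have hcf := isClassFunction_of_isCharacter hc
  have h1 := sum_irr_conj_mul hχ y y⁻¹
  rw [isCharacter_apply_inv hc y] at h1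
  have h2 : ∑ g : G, χ (g⁻¹ * y⁻¹ * g * y) = ∑ g : G, χ (y * (g * y⁻¹ * g⁻¹)) := by
    rw [← Equiv.sum_comp (Equiv.inv G) (fun g => χ (g⁻¹ * y⁻¹ * g * y))]
    apply Finset.sum_congr rfl
    intro g _
    simp only [Equiv.inv_apply, inv_inv]
    have := hcf (g * y⁻¹ * g⁻¹ * y) y
    rw [← this]
    congr 1
    group
  rw [h2, h1, mul_assoc]

variable {p : ℕ} [hpf : Fact p.Prime]

/-- **The commutator count inequality.** -/
theorem star_ineq (C : Cfg G Ω p) [MulAction.IsPretransitive G Ω] (hΩ : Fintype.card Ω = 2 * p)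
    {ψ : IrrCharacter G} {X : Finset (IrrCharacter G)} (D : Dec C ψ X) :
    2 * X.card * Nat.card (MulAction.stabilizer G C.a) ≤
      ∑ m : ZMod p, if m = 0 then 0 else
        (tr G C.a (C.xp m • C.a) (C.xp m • C.a)
          + tr G C.a (C.mirror.xp m • C.a) (C.mirror.xp m • C.a)
          + 2 * tr G C.a (C.xp m • C.a) (C.mirror.xp m • C.a)) := by
  classical
  have hp := hpf.out
  have hp0 : (p : ℂ) ≠ 0 := by exact_mod_cast hp.ne_zero
  set Rm : ZMod p → ℕ := fun m => tr G C.a (C.xp m • C.a) (C.xp m • C.a)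
          + tr G C.a (C.mirror.xp m • C.a) (C.mirror.xp m • C.a)
          + 2 * tr G C.a (C.xp m • C.a) (C.mirror.xp m • C.a) with hRm
  -- the sums `S χ y`
  set S : (G → ℂ) → G → ℂ := fun χ y => ∑ g : G, χ (g⁻¹ * y⁻¹ * g * y) with hS
  -- the two sides for one `m`
  have hside : ∀ m : ZMod p, ((p ^ 2 * Rm m : ℕ) : ℂ)
      = (Nat.card G : ℂ) + S (ψ : G → ℂ) (C.xp m) + ∑ χ ∈ X, S (χ : G → ℂ) (C.xp m) := by
    intro m
    rw [← Cfg'.sum_card_comm_eq C hΩ m]
    push_cast
    simp only [← pc_eq_card, D.hpc, Finset.sum_add_distrib, hS]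
    rw [Finset.sum_comm]
    simp [Nat.card_eq_fintype_card]
  -- the data of the restrictions to `⟨x⟩`
  choose mm d hd hnorm hle using fun χ : IrrCharacter G =>
    C.exists_nat_norm (isCharacter_of_isIrrCharacter χ.2)
  have hd0 : ∀ χ : IrrCharacter G, d χ ≠ 0 := by
    intro χ h0
    have := apply_one_ne_zero χ.2
    rw [hd χ, h0] at this
    exact this (by simp)
  -- `ψ` does not contribute
  have hψ : ∀ m : ZMod p, m ≠ 0 → S (ψ : G → ℂ) (C.xp m) = 0 := by
    intro m hm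
    have h1 := irr_sum_comm ψ.2 (C.xp m)
    rw [D.hψ0 m hm, zero_mul, mul_zero, D.hψ1] at h1
    exact (mul_eq_zero.1 h1).resolve_left hp0
  -- the contribution of `χ`
  have hχ : ∀ χ : IrrCharacter G, (d χ : ℂ) * ∑ m : ZMod p, (if m = 0 then 0 else
      S (χ : G → ℂ) (C.xp m)) = (Nat.card G : ℂ) * ((p : ℂ) * mm χ - (d χ : ℂ) ^ 2) := by
    intro χ
    rw [Finset.mul_sum]
    have h1 : ∀ m : ZMod p, (d χ : ℂ) * (if m = 0 then 0 else S (χ : G → ℂ) (C.xp m))
        = (Nat.card G : ℂ) * ((χ : G → ℂ) (C.xp m) * conj ((χ : G → ℂ) (C.xp m)))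
          - if m = 0 then (Nat.card G : ℂ) * (d χ : ℂ) ^ 2 else 0 := by
      intro m
      by_cases hm : m = 0
      · subst hm
        rw [if_pos rfl, if_pos rfl, C.xp_zero, hd χ, Complex.conj_natCast]
        ring
      · rw [if_neg hm, if_neg hm, sub_zero, ← hd χ]
        exact irr_sum_comm χ.2 (C.xp m)
    rw [Finset.sum_congr rfl (fun m _ => h1 m), Finset.sum_sub_distrib, ← Finset.mul_sum,
      hnorm χ, Finset.sum_ite_eq' Finset.univ (0 : ZMod p), if_pos (Finset.mem_univ _)]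
    ring
  -- the degrees in `X` add up to `p - 1`
  have hdeg : ∑ χ ∈ X, (d χ : ℂ) = (p : ℂ) - 1 := by
    have h1 := D.hpc 1
    rw [pc_one, hΩ, D.hψ1] at h1
    have h2 : ∑ χ ∈ X, (χ : G → ℂ) 1 = ∑ χ ∈ X, (d χ : ℂ) :=
      Finset.sum_congr rfl (fun χ _ => hd χ)
    rw [h2] at h1
    push_cast at h1
    linear_combination -h1
  -- the total, in real numbers
  have hGcard : Nat.card G = 2 * p * Nat.card (MulAction.stabilizer G C.a) := by
    rw [← Subgroup.index_mul_card (MulAction.stabilizer G C.a),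
      MulAction.index_stabilizer_of_transitive, Nat.card_eq_fintype_card, hΩ]
  set N : ℕ := ∑ m : ZMod p, if m = 0 then 0 else Rm m with hN
  have htotal : ((p ^ 2 * N : ℕ) : ℂ) = (Nat.card G : ℂ) * ((p : ℂ) - 1)
      + ∑ χ ∈ X, (Nat.card G : ℂ) * (((p : ℂ) * mm χ - (d χ : ℂ) ^ 2) / (d χ : ℂ)) := by
    have h1 : ((p ^ 2 * N : ℕ) : ℂ) = ∑ m : ZMod p, if m = 0 then 0 else
        ((p ^ 2 * Rm m : ℕ) : ℂ) := by
      rw [hN, Finset.mul_sum]
      push_cast
      apply Finset.sum_congr rfl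
      intro m _
      split_ifs <;> simp
    rw [h1]
    have h2 : ∀ m : ZMod p, (if m = 0 then (0 : ℂ) else ((p ^ 2 * Rm m : ℕ) : ℂ))
        = (if m = 0 then 0 else (Nat.card G : ℂ))
          + ∑ χ ∈ X, if m = 0 then 0 else S (χ : G → ℂ) (C.xp m) := by
      intro m
      by_cases hm : m = 0
      · simp [hm]
      · simp only [if_neg hm]
        rw [hside m, hψ m hm, add_zero]
    rw [Finset.sum_congr rfl (fun m _ => h2 m), Finset.sum_add_distrib, Finset.sum_comm]
    congr 1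
    · rw [← Finset.sum_erase_add _ _ (Finset.mem_univ (0 : ZMod p)), if_pos rfl, add_zero]
      rw [Finset.sum_congr rfl (fun m hm => if_neg (Finset.ne_of_mem_erase hm)),
        Finset.sum_const, Finset.card_erase_of_mem (Finset.mem_univ _), Finset.card_univ,
        ZMod.card, nsmul_eq_mul, Nat.cast_sub hp.one_le]
      push_cast
      ring
    · apply Finset.sum_congr rfl
      intro χ _
      have hdc : (d χ : ℂ) ≠ 0 := by exact_mod_cast hd0 χ
      rw [mul_div_assoc', ← hχ χ]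
      field_simp
  -- the inequality
  have hreal : ((p ^ 2 * N : ℕ) : ℝ) = (Nat.card G : ℝ) * ((p : ℝ) - 1)
      + ∑ χ ∈ X, (Nat.card G : ℝ) * (((p : ℝ) * mm χ - (d χ : ℝ) ^ 2) / (d χ : ℝ)) := by
    apply Complex.ofReal_injective
    push_cast
    push_cast at htotal
    exact htotal
  have hterm : ∀ χ ∈ X, (Nat.card G : ℝ) * ((p : ℝ) - (d χ : ℝ))
      ≤ (Nat.card G : ℝ) * (((p : ℝ) * mm χ - (d χ : ℝ) ^ 2) / (d χ : ℝ)) := by
    intro χ _
    apply mul_le_mul_of_nonneg_left _ (Nat.cast_nonneg _)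
    have hdpos : (0 : ℝ) < d χ := by exact_mod_cast Nat.pos_of_ne_zero (hd0 χ)
    rw [le_div_iff₀ hdpos]
    have hle' : (d χ : ℝ) ≤ mm χ := by exact_mod_cast hle χ
    have hp' : (0 : ℝ) ≤ p := Nat.cast_nonneg _
    nlinarith
  have hdegR : ∑ χ ∈ X, (d χ : ℝ) = (p : ℝ) - 1 := by
    apply Complex.ofReal_injective
    push_cast
    exact hdeg
  have hsum := Finset.sum_le_sum hterm
  rw [← Finset.mul_sum, Finset.sum_sub_distrib, Finset.sum_const, hdegR, nsmul_eq_mul] at hsum
  have hfinal : (Nat.card G : ℝ) * ((X.card : ℝ) * p) ≤ ((p ^ 2 * N : ℕ) : ℝ) := by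
    rw [hreal]
    linarith
  have hfinalN : Nat.card G * (X.card * p) ≤ p ^ 2 * N := by exact_mod_cast hfinal
  rw [hGcard] at hfinalN
  have hppos : 0 < p ^ 2 := pow_pos hp.pos 2
  have : p ^ 2 * (2 * X.card * Nat.card (MulAction.stabilizer G C.a)) ≤ p ^ 2 * N := by
    calc p ^ 2 * (2 * X.card * Nat.card (MulAction.stabilizer G C.a))
        = 2 * p * Nat.card (MulAction.stabilizer G C.a) * (X.card * p) := by ring
      _ ≤ p ^ 2 * N := hfinalN
  exact Nat.le_of_mul_le_mul_left this hppos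

end Cfsg.Agent.S0720H8
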